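import Mathlib

set_option autoImplicit false

/-! # Perfect Frobenius complements: shared definitions (helper4 lemma server "FCP")

`Trip t s a` : the relations of `SL(2,3)` (`⟨t,s⟩ ≅ Q8`, `a` of order 3 cycling `t → s → ts`).
`Hyp H`     : the abstract properties of a group with a fixed-point-free (semiregular) linear action that
              the group-theoretic part of the proof uses.  `key1`/`key2` come from the linear algebra
              (CTL / quadratic pair lemma) + Dickson; the other fields from helper56's `FC` library. -/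

namespace Cfsg.Agent.Helper4.FCP

/-- `t, s` of order 4 with `s⁻¹ t s = t⁻¹`, `a` of order 3 with `a⁻¹ t a = s`, `a⁻¹ s a = t s`. -/
structure Trip {H : Type*} [Group H] (t s a : H) : Prop where
  ot : orderOf t = 4
  os : orderOf s = 4
  inv : s⁻¹ * t * s = t⁻¹
  oa : orderOf a = 3
  ats : a⁻¹ * t * a = s
  ast : a⁻¹ * s * a = t * s

/-- Abstract hypotheses (all hold in a finite group with a semiregular linear action). -/
structure Hyp (H : Type*) [Group H] : Prop where
  /-- `p`-subgroups are cyclic or (for `p = 2`) generalized quaternion -/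
  pgroup : ∀ (p : ℕ) [Fact p.Prime] (P : Subgroup H), IsPGroup p P →
    IsCyclic P ∨ (p = 2 ∧ ∃ k : ℕ, 1 ≤ k ∧ Nonempty (P ≃* QuaternionGroup (2 ^ k)))
  /-- at most one involution -/
  inv : ∀ u v : H, orderOf u = 2 → orderOf v = 2 → u = v
  /-- an element of prime order normalizing an abelian subgroup of order prime to it centralizes it -/
  cc : ∀ (u : H) (p : ℕ), p.Prime → orderOf u = p → ∀ C : Subgroup H,
    (∀ a ∈ C, ∀ b ∈ C, a * b = b * a) → (∀ c ∈ C, u⁻¹ * c * u ∈ C) → ¬ p ∣ Nat.card C →
    ∀ c ∈ C, u⁻¹ * c * u = c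
  /-- solvable subgroups map to `S₄` with a kernel whose 2-subgroups are abelian -/
  solv4 : ∀ K : Subgroup H, Group.IsSolvable K → ∃ f : K →* Equiv.Perm (Fin 4),
    ∀ P₂ : Subgroup K, P₂ ≤ f.ker → IsPGroup 2 P₂ → ∀ x ∈ P₂, ∀ y ∈ P₂, x * y = y * x
  /-- CTL + Dickson -/
  key1 : ∀ t s a g : H, Trip t s a → g * t = t * g → s⁻¹ * g * s = g⁻¹ → g ^ 8 = 1
  /-- quadratic pair lemma + Dickson -/
  key2 : ∀ a b : H, orderOf a = 3 → orderOf b = 3 → a * b ≠ b * a → ∃ t s : H, Trip t s a

end Cfsg.Agent.Helper4.FCP
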